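import Mathlib.GroupTheory.Nilpotent
import Mathlib.GroupTheory.PGroup
import Mathlib.GroupTheory.IsPerfect
import Mathlib.GroupTheory.Commutator.Basic
import Mathlib.Algebra.Group.Subgroup.Pointwise

/-!
Thompson's `A × B` lemma and commutators in `p`-groups.
-/

namespace CfsgLib.Local

open Subgroup
open scoped commutatorElement

variable {G : Type*} [Group G]

theorem eq_bot_of_le_commutator_top [Group.IsNilpotent G] {Q : Subgroup G} (h : Q ≤ ⁅Q, (⊤ : Subgroup G)⁆) :
    Q = ⊥ := by
  obtain ⟨n, hn⟩ := Subgroup.nilpotent_iff_lowerCentralSeries.1 (inferInstance : Group.IsNilpotent G)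
  have key : ∀ i, Q ≤ (⊤ : Subgroup G).lowerCentralSeries i := by
    intro i
    induction i with
    | zero => exact le_top.trans_eq (Subgroup.lowerCentralSeries_zero _).symm
    | succ i ih =>
      refine h.trans ?_
      rw [Subgroup.lowerCentralSeries_succ]
      exact Subgroup.commutator_mono ih le_rfl
  exact le_bot_iff.1 (hn ▸ key n)

/-- If `U` and `Q` are `p`-groups and `U` normalizes `Q ≠ 1` then `[Q, U] < Q`. -/
theorem commutator_lt_of_isPGroup [Finite G] {p : ℕ} [Fact p.Prime] {Q U : Subgroup G} (hQ : IsPGroup p Q)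
    (hU : IsPGroup p U) (hn : U ≤ Subgroup.normalizer (Q : Set G)) (hne : Q ≠ ⊥) : ⁅Q, U⁆ < Q := by
  have hle : ⁅Q, U⁆ ≤ Q := by
    rw [Subgroup.commutator_comm]; exact Subgroup.commutator_le.2 fun u hu q hq =>
      Q.mul_mem ((Subgroup.mem_normalizer_iff.1 (hn hu) q).1 hq) (Q.inv_mem hq)
  refine lt_of_le_of_ne hle fun heq => hne ?_
  have hP : IsPGroup p ↥(Q ⊔ U) := hQ.to_sup_of_normal_left' hU hn
  have := hP.isNilpotent
  have h := eq_bot_of_le_commutator_top (G := ↥(Q ⊔ U)) (Q := Q.subgroupOf (Q ⊔ U)) ?_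
  · rw [Subgroup.subgroupOf_eq_bot, disjoint_iff, inf_eq_left.2 le_sup_left] at h
    exact h
  · rw [← Subgroup.map_subtype_le_map_subtype, Subgroup.map_commutator,
      Subgroup.map_subgroupOf_eq_of_le le_sup_left, ← MonoidHom.range_eq_map, Subgroup.range_subtype]
    exact heq.symm.le.trans (Subgroup.commutator_mono le_rfl le_sup_right)

/-- Thompson's `A × B` lemma, for one element `x` of order prime to `p` whose action commutes with that of the `p`-group
`U` on `Q`: if `x` centralizes the fixed points of `U` on the `p`-group `Q`, both normalizing `Q`, then `x` centralizes `Q`. -/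
theorem commute_of_commutator_fixedPoints [Finite G] {p : ℕ} [Fact p.Prime] {U : Subgroup G} {x : G}
    (hU : IsPGroup p U) (hx : (orderOf x).Coprime p) :
    ∀ Q : Subgroup G, IsPGroup p Q → U ≤ Subgroup.normalizer (Q : Set G) →
      x ∈ Subgroup.normalizer (Q : Set G) →
      (∀ u ∈ U, ∀ q ∈ Q, (x * u * x⁻¹ * u⁻¹) * q = q * (x * u * x⁻¹ * u⁻¹)) →
      (∀ q ∈ Q, (∀ u ∈ U, u * q = q * u) → x * q = q * x) → ∀ q ∈ Q, x * q = q * x := by
  intro Q
  induction h : Nat.card Q using Nat.strong_induction_on generalizing Q with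
  | _ n ih =>
    subst h
    intro hQ hn hxn hxU hfix
    rcases eq_or_ne Q ⊥ with rfl | hne
    · intro q hq; rw [Subgroup.mem_bot.1 hq, mul_one, one_mul]
    have hlt := commutator_lt_of_isPGroup hQ hU hn hne
    have hnorm : ∀ g : G, g ∈ Subgroup.normalizer (Q : Set G) → g ∈ Subgroup.normalizer (U : Set G) →
        g ∈ Subgroup.normalizer ((⁅Q, U⁆ : Subgroup G) : Set G) := by
      intro g hgQ hgU
      rw [Subgroup.mem_normalizer_iff_map_conj_eq] at hgQ hgU ⊢
      rw [Subgroup.map_commutator, hgQ, hgU]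
    have hxR : x ∈ Subgroup.normalizer ((⁅Q, U⁆ : Subgroup G) : Set G) := by
      rw [Subgroup.mem_normalizer_iff_map_conj_eq]
      refine Subgroup.eq_of_le_of_card_ge ?_
        (Subgroup.card_map_of_injective (MulAut.conj x).injective).ge
      rw [Subgroup.map_le_iff_le_comap, Subgroup.commutator_le]
      intro q hq u hu
      rw [Subgroup.mem_comap]
      have hq' := (Subgroup.mem_normalizer_iff.1 hxn q).1 hq
      have hd := hxU u hu _ (Q.inv_mem hq')
      have : (MulAut.conj x : G →* G) ⁅q, u⁆ = ⁅x * q * x⁻¹, u⁆ := by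
        show x * ⁅q, u⁆ * x⁻¹ = _
        simp only [commutatorElement_def] at hd ⊢
        calc x * (q * u * q⁻¹ * u⁻¹) * x⁻¹
            = x * q * x⁻¹ * ((x * u * x⁻¹ * u⁻¹) * u) * (x * q * x⁻¹)⁻¹ * ((x * u * x⁻¹ * u⁻¹) * u)⁻¹ := by group
          _ = x * q * x⁻¹ * u * ((u⁻¹ * (x * u * x⁻¹ * u⁻¹) * u) * (x * q * x⁻¹)⁻¹ *
                (u⁻¹ * (x * u * x⁻¹ * u⁻¹) * u)⁻¹) * u⁻¹ := by group
          _ = _ := by
            have hq'' := (Subgroup.mem_normalizer_iff.1 (hn hu) _).1 (Q.inv_mem hq')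
            have h5 := hxU u hu _ hq''
            have h6 : (u⁻¹ * (x * u * x⁻¹ * u⁻¹) * u) * (x * q * x⁻¹)⁻¹ =
                (x * q * x⁻¹)⁻¹ * (u⁻¹ * (x * u * x⁻¹ * u⁻¹) * u) := by
              have h7 := congrArg (fun g => u⁻¹ * g * u) h5
              simpa [mul_assoc] using h7
            rw [h6]; group
      rw [this]
      exact Subgroup.commutator_mem_commutator hq' hu
    have h1 : ∀ q ∈ (⁅Q, U⁆ : Subgroup G), x * q = q * x :=
      ih _ (lt_of_le_of_ne (Subgroup.card_le_of_le hlt.le) fun he => hlt.ne (Subgroup.eq_of_le_of_card_ge hlt.le he.ge))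
        _ rfl (hQ.to_le hlt.le) (fun u hu => hnorm u (hn hu) (Subgroup.le_normalizer hu))
        hxR (fun u hu q hq => hxU u hu q (hlt.le hq)) fun q hq => hfix q (hlt.le hq)
    intro q hq
    have hcomm : ∀ (i : ℤ) (u : G), u ∈ U → ⁅u, x ^ i⁆ ∈ Subgroup.centralizer (Q : Set G) := by
      intro i u hu
      have h1 : x * u * x⁻¹ * u⁻¹ ∈ Subgroup.centralizer (Q : Set G) :=
        Subgroup.mem_centralizer_iff.2 fun q hq => (hxU u hu q hq).symm
      -- the powers of `x` commute with `u` modulo the centralizer of `Q`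
      have hN : ∀ g ∈ Subgroup.normalizer (Q : Set G), ∀ a ∈ Subgroup.centralizer (Q : Set G),
          g * a * g⁻¹ ∈ Subgroup.centralizer (Q : Set G) := by
        intro g hg a ha
        refine Subgroup.mem_centralizer_iff.2 fun q hq => ?_
        have h := (Subgroup.mem_normalizer_iff''.1 hg q).1 hq
        have h2 := congrArg (fun w => g * w * g⁻¹) (Subgroup.mem_centralizer_iff.1 ha _ h)
        simpa [mul_assoc] using h2
      set C := (Subgroup.centralizer (Q : Set G)).subgroupOf (Subgroup.normalizer (Q : Set G))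
      have hCn : C.Normal := ⟨fun a ha g => hN g g.2 a ha⟩
      have hc : Commute (QuotientGroup.mk' C ⟨x, hxn⟩) (QuotientGroup.mk' C ⟨u, hn hu⟩) := by
        rw [← commutatorElement_eq_one_iff_commute, ← map_commutatorElement, QuotientGroup.mk'_apply,
          QuotientGroup.eq_one_iff]
        exact h1
      have h2 := (Commute.zpow_left hc i).symm
      rw [← map_zpow, ← commutatorElement_eq_one_iff_commute, ← map_commutatorElement,
        QuotientGroup.mk'_apply, QuotientGroup.eq_one_iff] at h2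
      exact h2
    -- three subgroup lemma: `[x, q]` is centralized by `U`
    have hX : ⁅⁅Subgroup.zpowers x, Q⁆, U⁆ = ⊥ := by
      refine Subgroup.commutator_commutator_eq_bot_of_rotate ?_ ?_
      · refine Subgroup.commutator_eq_bot_iff_le_centralizer.2 ?_
        intro g hg
        refine Subgroup.mem_centralizer_iff.2 fun y hy => ?_
        obtain ⟨i, rfl⟩ := Subgroup.mem_zpowers_iff.1 hy
        exact (Commute.zpow_left (h1 g hg) i)
      · refine Subgroup.commutator_eq_bot_iff_le_centralizer.2 (Subgroup.commutator_le.2 ?_)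
        intro u hu y hy
        obtain ⟨i, rfl⟩ := Subgroup.mem_zpowers_iff.1 hy
        exact hcomm i u hu
    set c := x * q * x⁻¹ * q⁻¹ with hc
    have hcQ : c ∈ Q := Q.mul_mem ((Subgroup.mem_normalizer_iff.1 hxn q).1 hq) (Q.inv_mem hq)
    have hcU : ∀ u ∈ U, u * c = c * u := fun u hu =>
      Subgroup.mem_centralizer_iff.1 (Subgroup.commutator_eq_bot_iff_le_centralizer.1 hX
        (Subgroup.commutator_mem_commutator (Subgroup.mem_zpowers x) hq)) u hu
    have hxc : x * c = c * x := hfix c hcQ hcU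
    have hxq : x * q * x⁻¹ = c * q := by rw [hc]; group
    have hpow : ∀ i : ℕ, x ^ i * q * (x ^ i)⁻¹ = c ^ i * q := by
      intro i
      induction i with
      | zero => simp
      | succ i ihi =>
        calc x ^ (i + 1) * q * (x ^ (i + 1))⁻¹ = x * (x ^ i * q * (x ^ i)⁻¹) * x⁻¹ := by
              rw [pow_succ']; group
          _ = x * c ^ i * q * x⁻¹ := by rw [ihi]; group
          _ = c ^ i * (x * q * x⁻¹) := by rw [(Commute.pow_right hxc i).eq]; group
          _ = c ^ (i + 1) * q := by rw [hxq, pow_succ]; group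
    have hcone : c ^ orderOf x = 1 := by
      have := hpow (orderOf x)
      rw [pow_orderOf_eq_one, one_mul, inv_one, mul_one] at this
      exact right_eq_mul.1 this
    have hc1 : c = 1 := by
      obtain ⟨k, hk⟩ := hQ ⟨c, hcQ⟩
      have hk' : c ^ p ^ k = 1 := congrArg Subtype.val hk
      have := pow_gcd_eq_one.2 ⟨hcone, hk'⟩
      rwa [(hx.pow_right k).gcd_eq_one, pow_one] at this
    rw [hc, mul_inv_eq_one, mul_inv_eq_iff_eq_mul] at hc1
    exact hc1

/-- Thompson's `A × B` lemma, for one element `x` of order prime to `p`: if `x` centralizes the `p`-group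
`U` and its fixed points on the `p`-group `Q`, both normalizing `Q`, then `x` centralizes `Q`. -/
theorem commute_of_commute_fixedPoints [Finite G] {p : ℕ} [Fact p.Prime] {U : Subgroup G} {x : G}
    (hU : IsPGroup p U) (hxU : ∀ u ∈ U, x * u = u * x) (hx : (orderOf x).Coprime p)
    (Q : Subgroup G) (hQ : IsPGroup p Q) (hn : U ≤ Subgroup.normalizer (Q : Set G))
    (hxn : x ∈ Subgroup.normalizer (Q : Set G))
    (hfix : ∀ q ∈ Q, (∀ u ∈ U, u * q = q * u) → x * q = q * x) : ∀ q ∈ Q, x * q = q * x :=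
  commute_of_commutator_fixedPoints hU hx Q hQ hn hxn
    (fun u hu q _ => by rw [show x * u * x⁻¹ * u⁻¹ = 1 by rw [hxU u hu]; group, one_mul, mul_one]) hfix

/-- A finite perfect group generated modulo `C` by `p'`-elements: if every `p'`-element of a perfect
subgroup `D` centralizes the set `Q`, which `D` normalizes, then so does `D`. -/
theorem le_centralizer_of_isPerfect [Finite G] {p : ℕ} [hp : Fact p.Prime] {D Q : Subgroup G}
    (hD : ⁅D, D⁆ = D) (hn : D ≤ Subgroup.normalizer (Q : Set G))
    (h : ∀ x ∈ D, (orderOf x).Coprime p → x ∈ Subgroup.centralizer (Q : Set G)) :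
    D ≤ Subgroup.centralizer (Q : Set G) := by
  have hperf : Group.IsPerfect D := Subgroup.isPerfect_iff.2 hD
  set C := (Subgroup.centralizer (Q : Set G)).subgroupOf D with hC
  have hCn : C.Normal := by
    refine ⟨fun a ha g => ?_⟩
    rw [hC, Subgroup.mem_subgroupOf] at ha ⊢
    rw [Subgroup.mem_centralizer_iff] at ha ⊢
    intro q hq
    have hg : (g : G)⁻¹ * q * g ∈ Q := by
      have := (Subgroup.mem_normalizer_iff.1 (Subgroup.inv_mem _ (hn g.2)) q).1 hq
      simpa using this
    have h2 := ha _ hg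
    show q * ((g : G) * a * (g : G)⁻¹) = (g : G) * a * (g : G)⁻¹ * q
    calc q * ((g : G) * a * (g : G)⁻¹) = (g : G) * ((g : G)⁻¹ * q * g * a) * (g : G)⁻¹ := by group
      _ = (g : G) * (a * ((g : G)⁻¹ * q * g)) * (g : G)⁻¹ := by rw [h2]
      _ = (g : G) * a * (g : G)⁻¹ * q := by group
  have hPq : IsPGroup p (↥D ⧸ C) := by
    intro y
    obtain ⟨g, rfl⟩ := QuotientGroup.mk'_surjective C y
    refine ⟨(orderOf g).factorization p, ?_⟩
    rw [← map_pow, QuotientGroup.mk'_apply, QuotientGroup.eq_one_iff, hC, Subgroup.mem_subgroupOf]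
    refine h _ (Subtype.mem _) ?_
    rw [Subgroup.orderOf_coe, orderOf_pow' _ (pow_ne_zero _ hp.out.ne_zero),
      Nat.gcd_eq_right (Nat.ordProj_dvd _ _), Nat.coprime_comm, hp.out.coprime_iff_not_dvd]
    exact Nat.not_dvd_ordCompl hp.out (orderOf_pos g).ne'
  have : Group.IsNilpotent (↥D ⧸ C) := hPq.isNilpotent
  have : Group.IsPerfect (↥D ⧸ C) := Group.IsPerfect.ofSurjective (QuotientGroup.mk'_surjective C)
  have hsub : Subsingleton (↥D ⧸ C) := by
    by_contra hns
    have := not_subsingleton_iff_nontrivial.1 hns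
    exact Group.IsPerfect.not_isSolvable (↥D ⧸ C) inferInstance
  intro g hg
  have : (⟨g, hg⟩ : D) ∈ C := (QuotientGroup.eq_one_iff _).1 (Subsingleton.elim _ _)
  exact this

end CfsgLib.Local
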