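import Cfsg.Prelude.Def_ClassificationK
import Cfsg.Agent.Lib.PGroup.Basic

/-!
2-groups of symplectic type and exponent dividing four: commutators and squares lie in a central
subgroup of order two.
-/

namespace CfsgLib.Local

open Subgroup Cfsg
open scoped commutatorElement

variable {Q : Type*} [Group Q]

theorem cyclic_involution_unique [Finite Q] (h : IsCyclic Q) (x y : Q) (hx : x ^ 2 = 1)
    (hx1 : x ≠ 1) (hy : y ^ 2 = 1) (hy1 : y ≠ 1) : x = y := by
  classical
  have := Fintype.ofFinite Q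
  have hle := h.card_pow_eq_one_le (α := Q) (n := 2) two_pos
  by_contra hne
  have : ({1, x, y} : Finset Q) ⊆ Finset.univ.filter fun a : Q => a ^ 2 = 1 := by
    intro a ha
    simp only [Finset.mem_insert, Finset.mem_singleton] at ha
    rcases ha with rfl | rfl | rfl <;> simp [*]
  have := Finset.card_le_card this
  rw [Finset.card_insert_of_notMem (by simp [Ne.symm hx1, Ne.symm hy1]),
    Finset.card_insert_of_notMem (by simp [hne]), Finset.card_singleton] at this
  omega

/-- A commutator generating a normal cyclic subgroup of a group of exponent four squares to one. -/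
theorem sq_eq_one_of_commutator (h4 : ∀ q : Q, q ^ 4 = 1) {a b v : Q} (hv : a * b * a⁻¹ * b⁻¹ = v)
    (hg : ∀ g : Q, g * v * g⁻¹ = v ∨ g * v * g⁻¹ = v⁻¹) : v ^ 2 = 1 := by
  have key : ∀ a b v : Q, a * b * a⁻¹ * b⁻¹ = v → Commute b v →
      (a * v * a⁻¹ = v ∨ a * v * a⁻¹ = v⁻¹) → v ^ 2 = 1 := by
    intro a b v hv hbv ha
    have hab : a * b * a⁻¹ = v * b := by rw [← hv]; group
    have hab' : a * b = v * b * a := mul_inv_eq_iff_eq_mul.1 hab
    have hconj : a ^ 2 * b * (a ^ 2)⁻¹ = a * v * a⁻¹ * (v * b) := by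
      rw [pow_two]
      calc a * a * b * (a * a)⁻¹ = a * (a * b * a⁻¹) * a⁻¹ := by group
        _ = a * (v * b) * a⁻¹ := by rw [hab]
        _ = a * v * a⁻¹ * (a * b * a⁻¹) := by group
        _ = _ := by rw [hab]
    have hvb2 : Commute v (b ^ 2) := hbv.symm.pow_right 2
    rcases ha with ha | ha
    · rw [ha, ← mul_assoc, ← pow_two] at hconj
      have h1 : (a * b) ^ 2 = v ^ 3 * b ^ 2 * a ^ 2 := by
        calc (a * b) ^ 2 = a * b * (a * b) := pow_two _
          _ = v * b * a * (a * b) := by rw [hab']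
          _ = v * b * (a ^ 2 * b * (a ^ 2)⁻¹) * a ^ 2 := by rw [pow_two a]; group
          _ = v * b * (v ^ 2 * b) * a ^ 2 := by rw [hconj]
          _ = v * (b * v ^ 2) * b * a ^ 2 := by group
          _ = v * (v ^ 2 * b) * b * a ^ 2 := by rw [(hbv.pow_right 2).eq]
          _ = _ := by simp [pow_succ, mul_assoc]
      have hc : Commute (a ^ 2) (b ^ 2) := by
        refine mul_inv_eq_iff_eq_mul.1 ?_
        rw [← conj_pow, hconj, (hbv.symm.pow_left 2).mul_pow, ← pow_mul, h4, one_mul]
      have hva : Commute v (a ^ 2) := (Commute.pow_right (mul_inv_eq_iff_eq_mul.1 ha).symm 2)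
      have h2 : ((a * b) ^ 2) ^ 2 = v ^ 2 := by
        rw [h1, (show Commute (v ^ 3 * b ^ 2) (a ^ 2) from ((hva.pow_left 3).mul_left hc.symm)).mul_pow,
          (hvb2.pow_left 3).mul_pow, ← pow_mul, ← pow_mul, ← pow_mul, show 3 * 2 = 4 + 2 from rfl, pow_add, h4, h4, h4]
        simp
      rw [← pow_mul, h4] at h2
      exact h2.symm
    · rw [ha, ← mul_assoc, inv_mul_cancel, one_mul] at hconj
      have hc : Commute (a ^ 2) b := mul_inv_eq_iff_eq_mul.1 hconj
      have hX : a⁻¹ * b * a = v * b := by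
        have hva : a⁻¹ * v * a = v⁻¹ := by
          calc a⁻¹ * v * a = a⁻¹ * (v⁻¹)⁻¹ * a := by rw [inv_inv]
            _ = a⁻¹ * (a * v * a⁻¹)⁻¹ * a := by rw [ha]
            _ = v⁻¹ := by group
        calc a⁻¹ * b * a = a⁻¹ * (v⁻¹ * (a * b * a⁻¹)) * a := by rw [hab]; group
          _ = a⁻¹ * v⁻¹ * a * b := by group
          _ = (a⁻¹ * v * a)⁻¹ * b := by group
          _ = v * b := by rw [hva, inv_inv]
      have h1 : (a * b) ^ 2 = a ^ 2 * (v * b ^ 2) := by
        calc (a * b) ^ 2 = a * a * (a⁻¹ * b * a) * b := by rw [pow_two]; group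
          _ = _ := by rw [hX, pow_two, pow_two]; group
      have hcv : Commute (a ^ 2) v := by
        refine mul_inv_eq_iff_eq_mul.1 ?_
        calc a ^ 2 * v * (a ^ 2)⁻¹ = a * (a * v * a⁻¹) * a⁻¹ := by rw [pow_two]; group
          _ = a * v⁻¹ * a⁻¹ := by rw [ha]
          _ = (a * v * a⁻¹)⁻¹ := by group
          _ = v := by rw [ha, inv_inv]
      have h2 : ((a * b) ^ 2) ^ 2 = v ^ 2 := by
        rw [h1, (hcv.mul_right (hc.pow_right 2)).mul_pow, hvb2.mul_pow, ← pow_mul, ← pow_mul, h4, h4]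
        simp
      rw [← pow_mul, h4] at h2
      exact h2.symm
  rcases hg b with hb | hb
  · exact key a b v hv (mul_inv_eq_iff_eq_mul.1 hb) (hg a)
  rcases hg a with ha | ha
  · have h := key b a v⁻¹ (by rw [← hv]; group) (Commute.inv_right (mul_inv_eq_iff_eq_mul.1 ha)) (Or.inr (by
      rw [inv_inv, ← conj_inv, hb, inv_inv]))
    rwa [inv_pow, inv_eq_one] at h
  · have h := key a (a * b) v⁻¹ (by rw [← ha, ← hv]; group) (Commute.inv_right (mul_inv_eq_iff_eq_mul.1 (by
      calc a * b * v * (a * b)⁻¹ = a * (b * v * b⁻¹) * a⁻¹ := by group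
        _ = (a * v * a⁻¹)⁻¹ := by rw [hb]; group
        _ = v := by rw [ha, inv_inv]))) (Or.inr (by rw [inv_inv, ← conj_inv, ha, inv_inv]))
    rwa [inv_pow, inv_eq_one] at h

variable [Finite Q]

/-- Structure of a 2-group of symplectic type and exponent dividing four. -/
theorem symplectic_four (hQ : IsOfSymplecticType Q) (h4 : ∀ q : Q, q ^ 4 = 1) {z : Q} (hz : z ∈ center Q)
    (hz2 : z ^ 2 = 1) (hz1 : z ≠ 1) :
    (∀ a b : Q, a * b * a⁻¹ * b⁻¹ = 1 ∨ a * b * a⁻¹ * b⁻¹ = z) ∧ (∀ a : Q, a ^ 2 = 1 ∨ a ^ 2 = z) ∧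
      (∀ x ∈ center Q, x ≠ 1 → z ∈ zpowers x) := by
  have h2 : Fact (Nat.Prime 2) := ⟨Nat.prime_two⟩
  have hcyc := hQ.2 (center Q) inferInstance inferInstance
  have uniq : ∀ x ∈ center Q, x ^ 2 = 1 → x = 1 ∨ x = z := fun x hx hx2 => by
    by_cases h1 : x = 1
    · exact Or.inl h1
    · exact Or.inr (congrArg Subtype.val (cyclic_involution_unique hcyc (⟨x, hx⟩ : center Q) ⟨z, hz⟩
        (Subtype.ext hx2) (fun h => h1 (congrArg Subtype.val h)) (Subtype.ext hz2)
        (fun h => hz1 (congrArg Subtype.val h))))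
  have hcomm : ∀ a b : Q, a * b * a⁻¹ * b⁻¹ ∈ center Q := by
    by_contra hne
    have hex : ∃ k, (⊤ : Subgroup Q).lowerCentralSeries k ≤ center Q := by
      obtain ⟨n, hn⟩ := Subgroup.nilpotent_iff_lowerCentralSeries.1 hQ.1.isNilpotent
      exact ⟨n, hn ▸ bot_le⟩
    classical
    obtain ⟨j, hj⟩ : ∃ j, Nat.find hex = j + 2 := by
      refine ⟨Nat.find hex - 2, ?_⟩
      have h0 : Nat.find hex ≠ 0 := fun h0 => hne fun a b => by
        have := Nat.find_spec hex
        rw [h0] at this
        exact this (mem_top _)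
      have h1 : Nat.find hex ≠ 1 := fun h1 => hne fun a b => by
        have := Nat.find_spec hex
        rw [h1] at this
        exact this (by rw [← commutatorElement_def]; exact commutator_mem_commutator (mem_top a) (mem_top b))
      omega
    set A := (⊤ : Subgroup Q).lowerCentralSeries (j + 1) with hA
    have hAnot : ¬ A ≤ center Q := Nat.find_min hex (by omega)
    have hA2 : ⁅A, (⊤ : Subgroup Q)⁆ ≤ center Q := by
      have h := Nat.find_spec hex
      rw [hj, Subgroup.lowerCentralSeries_succ] at h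
      exact h
    have hab : IsMulCommutative A := by
      have hle : A ≤ _root_.commutator Q := by
        rw [← top_lowerCentralSeries_one]
        exact Subgroup.lowerCentralSeries_antitone _ (by omega)
      have h3 : ⁅⁅A, (⊤ : Subgroup Q)⁆, (⊤ : Subgroup Q)⁆ = ⊥ := by
        rw [commutator_top_right_eq_bot_iff_le_center]; exact hA2
      have h4' : ⁅⁅(⊤ : Subgroup Q), (⊤ : Subgroup Q)⁆, A⁆ = ⊥ :=
        commutator_commutator_eq_bot_of_rotate (by rwa [commutator_comm (⊤ : Subgroup Q) A]) h3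
      rw [← _root_.commutator_def, commutator_eq_bot_iff_le_centralizer] at h4'
      exact ⟨⟨fun x y => Subtype.ext (mem_centralizer_iff.1 (h4' (hle y.2)) x x.2)⟩⟩
    have hAc := hQ.2 A inferInstance hab
    obtain ⟨⟨w, hwA⟩, hw⟩ := hAc.exists_generator
    have hform : ∀ x ∈ A, x = 1 ∨ x = w ∨ x = w ^ 2 ∨ x = w⁻¹ := by
      intro x hx
      obtain ⟨i, hi⟩ := mem_zpowers_iff.1 (hw ⟨x, hx⟩)
      have hi' : w ^ i = x := congrArg Subtype.val hi
      have hw4 : orderOf w ∣ 4 := orderOf_dvd_of_pow_eq_one (h4 w)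
      rw [← zpow_mod_orderOf, ← Int.emod_emod_of_dvd i (Int.natCast_dvd_natCast.2 (dvd_refl (orderOf w)))] at hi'
      have h4i : w ^ (i % 4) = x := by
        rw [← hi', Int.emod_emod_of_dvd i (dvd_refl _), zpow_mod_orderOf, ← zpow_mod_orderOf w (i % 4),
          Int.emod_emod_of_dvd i (by exact_mod_cast hw4), zpow_mod_orderOf]
      have := Int.emod_nonneg i (show (4 : ℤ) ≠ 0 by norm_num)
      have := Int.emod_lt_of_pos i (show (0 : ℤ) < 4 by norm_num)
      rcases (show i % 4 = 0 ∨ i % 4 = 1 ∨ i % 4 = 2 ∨ i % 4 = 3 by omega) with h | h | h | h <;> rw [h] at h4i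
      · exact Or.inl (by rw [← h4i, zpow_zero])
      · exact Or.inr (Or.inl (by rw [← h4i, zpow_one]))
      · exact Or.inr (Or.inr (Or.inl (by rw [← h4i]; exact zpow_ofNat w 2)))
      · refine Or.inr (Or.inr (Or.inr ?_))
        rw [← h4i]
        refine eq_inv_of_mul_eq_one_left ?_
        rw [← zpow_add_one]
        exact_mod_cast h4 w
    have hw2c : w ^ 2 ∈ center Q := by
      refine mem_center_iff.2 fun g => mul_inv_eq_iff_eq_mul.1 ?_
      rw [← conj_pow]
      rcases hform _ ((inferInstance : A.Normal).conj_mem w hwA g) with h | h | h | h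
      · rw [h, one_pow, show w = 1 from (conj_eq_one_iff.1 h), one_pow]
      · rw [h]
      · rw [h, ← pow_mul, h4]
        have : (g * w * g⁻¹) ^ 2 = 1 := by rw [h, ← pow_mul, h4]
        rw [conj_pow] at this
        exact (conj_eq_one_iff.1 this).symm
      · rw [h, inv_pow]
        refine inv_eq_of_mul_eq_one_right ?_
        rw [← pow_add, h4]
    apply hAnot
    show ((⊤ : Subgroup Q).lowerCentralSeries j.succ) ≤ center Q
    rw [Subgroup.lowerCentralSeries_succ, commutator_le]
    intro y hy q _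
    set v := ⁅y, q⁆ with hv
    have hvA : v ∈ A := commutator_mem_commutator hy (mem_top q)
    have hv2 : v ^ 2 = 1 := by
      by_contra hne2
      refine hne2 (sq_eq_one_of_commutator h4 (hv.trans (commutatorElement_def y q)).symm fun g => ?_)
      have hgA := (inferInstance : A.Normal).conj_mem v hvA g
      have hg2 : (g * v * g⁻¹) ^ 2 ≠ 1 := by
        rw [conj_pow]; exact fun h => hne2 (conj_eq_one_iff.1 h)
      have hgen : ∀ x ∈ A, x ^ 2 ≠ 1 → x = w ∨ x = w⁻¹ := fun x hx hx2 => by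
        rcases hform x hx with h | h | h | h
        · exact absurd (by rw [h, one_pow]) hx2
        · exact Or.inl h
        · exact absurd (by rw [h, ← pow_mul, h4]) hx2
        · exact Or.inr h
      rcases hgen v hvA hne2 with h1 | h1 <;> rcases hgen _ hgA hg2 with h' | h'
      · exact Or.inl (h'.trans h1.symm)
      · exact Or.inr (by rw [h', h1])
      · exact Or.inr (by rw [h', h1, inv_inv])
      · exact Or.inl (h'.trans h1.symm)
    rcases hform v hvA with h | h | h | h
    · rw [h]; exact Subgroup.one_mem _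
    · rw [h] at hv2 ⊢
      refine mem_center_iff.2 fun g => mul_inv_eq_iff_eq_mul.1 ?_
      rcases hform _ ((inferInstance : A.Normal).conj_mem w hwA g) with h' | h' | h' | h'
      · rw [h', conj_eq_one_iff.1 h']
      · exact h'
      · rw [hv2] at h'; rw [h', conj_eq_one_iff.1 h']
      · rw [h']; exact inv_eq_of_mul_eq_one_right (by rw [← pow_two]; exact hv2)
    · rw [h]; exact hw2c
    · rw [h, inv_pow, inv_eq_one] at hv2
      rw [h, inv_eq_of_mul_eq_one_right (show w * w = 1 by rw [← pow_two]; exact hv2)]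
      refine mem_center_iff.2 fun g => mul_inv_eq_iff_eq_mul.1 ?_
      rcases hform _ ((inferInstance : A.Normal).conj_mem w hwA g) with h' | h' | h' | h'
      · rw [h', conj_eq_one_iff.1 h']
      · exact h'
      · rw [hv2] at h'; rw [h', conj_eq_one_iff.1 h']
      · rw [h']; exact inv_eq_of_mul_eq_one_right (by rw [← pow_two]; exact hv2)
  have hc : ∀ a b : Q, a * b * a⁻¹ * b⁻¹ = 1 ∨ a * b * a⁻¹ * b⁻¹ = z := fun a b =>
    uniq _ (hcomm a b) (sq_eq_one_of_commutator h4 rfl fun g => Or.inl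
      (mul_inv_eq_iff_eq_mul.2 (mem_center_iff.1 (hcomm a b) g)))
  refine ⟨hc, fun a => ?_, fun x hx hx1 => ?_⟩
  · refine uniq _ (mem_center_iff.2 fun b => (mul_inv_eq_iff_eq_mul.1 ?_).symm) (by rw [← pow_mul, h4])
    have hcv := mem_center_iff.1 (hcomm a b)
    have hv2 : (a * b * a⁻¹ * b⁻¹) ^ 2 = 1 := by rcases hc a b with h | h <;> rw [h] <;> simp [hz2]
    calc a ^ 2 * b * (a ^ 2)⁻¹ = a * (a * b * a⁻¹ * b⁻¹) * a⁻¹ * (a * b * a⁻¹ * b⁻¹) * b := by rw [pow_two a]; group
      _ = (a * b * a⁻¹ * b⁻¹) ^ 2 * b := by rw [hcv a, mul_inv_cancel_right, pow_two]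
      _ = b := by rw [hv2, one_mul]
  · by_cases hx2 : x ^ 2 = 1
    · rcases uniq x hx hx2 with h | h
      · exact absurd h hx1
      · rw [h]; exact mem_zpowers z
    · rcases uniq (x ^ 2) (pow_mem hx 2) (by rw [← pow_mul, h4]) with h | h
      · exact absurd h hx2
      · rw [← h]; exact pow_mem (mem_zpowers x) 2

end CfsgLib.Local
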