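import Cfsg.Agent.Lib.Local.AB
import Mathlib.GroupTheory.IsSubnormal

/-!
Subgroups generated by `p'`-elements: perfect subgroups, subnormal subgroups of `p`-power index.
-/

namespace CfsgLib.Local

open Subgroup

variable {G : Type*} [Group G]

theorem mem_of_isSubnormal_of_index_dvd [Finite G] {p : ℕ} [Fact p.Prime] {K : Subgroup G}
    (hs : K.IsSubnormal) {k : ℕ} (hK : K.index ∣ p ^ k) {x : G} (hx : (orderOf x).Coprime p) : x ∈ K := by
  induction hs with
  | top => exact Subgroup.mem_top x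
  | step A B h_le _ hN ih =>
    have hrel : A.relIndex B * B.index = A.index := Subgroup.relIndex_mul_index h_le
    have hxB : x ∈ B := ih ((hrel ▸ dvd_mul_left _ _ : B.index ∣ A.index).trans hK)
    have h1 : (A.subgroupOf B).index ∣ p ^ k := (hrel ▸ dvd_mul_right _ _ : A.relIndex B ∣ A.index).trans hK
    have h2 : orderOf ((⟨x, hxB⟩ : B) : ↥B ⧸ A.subgroupOf B) ∣ p ^ k := (_root_.orderOf_dvd_natCard _).trans h1
    have h3 : orderOf ((⟨x, hxB⟩ : B) : ↥B ⧸ A.subgroupOf B) ∣ orderOf x := by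
      have := orderOf_map_dvd (QuotientGroup.mk' (A.subgroupOf B)) ⟨x, hxB⟩
      rwa [Subgroup.orderOf_mk] at this
    have h4 := Nat.eq_one_of_dvd_coprimes (hx.pow_right k) h3 h2
    have h5 : (⟨x, hxB⟩ : B) ∈ A.subgroupOf B := (QuotientGroup.eq_one_iff _).1 (orderOf_eq_one_iff.1 h4)
    exact h5

/-- A finite perfect subgroup is generated by its `p'`-elements. -/
theorem closure_coprime_of_isPerfect [Finite G] (p : ℕ) [hp : Fact p.Prime] {D : Subgroup G}
    (hD : ⁅D, D⁆ = D) : Subgroup.closure {x | x ∈ D ∧ (orderOf x).Coprime p} = D := by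
  have hperf : Group.IsPerfect D := Subgroup.isPerfect_iff.2 hD
  refine le_antisymm ((Subgroup.closure_le _).2 fun x hx => hx.1) fun g hg => ?_
  set N := Subgroup.closure {y : D | (orderOf y).Coprime p}
  have hN : N.Normal := by
    refine ⟨fun a ha d => ?_⟩
    have : N.map (MulAut.conj d).toMonoidHom ≤ N := by
      rw [MonoidHom.map_closure, Subgroup.closure_le]
      rintro _ ⟨y, hy, rfl⟩
      refine Subgroup.subset_closure ?_
      show (orderOf ((MulAut.conj d) y)).Coprime p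
      rwa [MulEquiv.orderOf_eq]
    exact this ⟨a, ha, rfl⟩
  have hq : IsPGroup p (↥D ⧸ N) := by
    intro y
    obtain ⟨d, rfl⟩ := QuotientGroup.mk'_surjective N y
    refine ⟨(orderOf d).factorization p, ?_⟩
    rw [← map_pow, QuotientGroup.mk'_apply, QuotientGroup.eq_one_iff]
    refine Subgroup.subset_closure ?_
    show (orderOf (d ^ p ^ _)).Coprime p
    rw [orderOf_pow' _ (pow_ne_zero _ hp.out.ne_zero), Nat.gcd_eq_right (Nat.ordProj_dvd _ _),
      Nat.coprime_comm, hp.out.coprime_iff_not_dvd]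
    exact Nat.not_dvd_ordCompl hp.out (orderOf_pos d).ne'
  have : Group.IsNilpotent (↥D ⧸ N) := hq.isNilpotent
  have : Group.IsPerfect (↥D ⧸ N) := Group.IsPerfect.ofSurjective (QuotientGroup.mk'_surjective N)
  have hsub : Subsingleton (↥D ⧸ N) := by
    by_contra hns
    have := not_subsingleton_iff_nontrivial.1 hns
    exact Group.IsPerfect.not_isSolvable (↥D ⧸ N) inferInstance
  have hgN : (⟨g, hg⟩ : D) ∈ N := (QuotientGroup.eq_one_iff _).1 (Subsingleton.elim _ _)
  have hmap : N.map D.subtype ≤ Subgroup.closure {x | x ∈ D ∧ (orderOf x).Coprime p} := by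
    rw [MonoidHom.map_closure, Subgroup.closure_le]
    rintro _ ⟨y, hy, rfl⟩
    exact Subgroup.subset_closure ⟨y.2, by rw [Subgroup.coe_subtype, Subgroup.orderOf_coe]; exact hy⟩
  exact hmap ⟨_, hgN, rfl⟩

/-- A normal `p`-subgroup normalizes every perfect subnormal subgroup. -/
theorem le_normalizer_of_isSubnormal_of_isPerfect [Finite G] {p : ℕ} [Fact p.Prime] {R L : Subgroup G}
    [R.Normal] (hR : IsPGroup p R) (hL : L.IsSubnormal) (hperf : ⁅L, L⁆ = L) :
    R ≤ Subgroup.normalizer (L : Set G) := by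
  intro r hr
  obtain ⟨k, hk⟩ := IsPGroup.iff_card.1 hR
  have hidx : (L.subgroupOf (L ⊔ R)).index ∣ p ^ k := by
    rw [← hk]
    show L.relIndex (L ⊔ R) ∣ Nat.card R
    have h1 : Nat.card L * L.relIndex (L ⊔ R) = Nat.card ↥(L ⊔ R) := by
      rw [← Subgroup.relIndex_bot_left L, ← Subgroup.relIndex_bot_left (L ⊔ R)]
      exact Subgroup.relIndex_mul_relIndex ⊥ L (L ⊔ R) bot_le le_sup_left
    have h2 : Nat.card R * R.relIndex (L ⊔ R) = Nat.card ↥(L ⊔ R) := by
      rw [← Subgroup.relIndex_bot_left R, ← Subgroup.relIndex_bot_left (L ⊔ R)]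
      exact Subgroup.relIndex_mul_relIndex ⊥ R (L ⊔ R) bot_le le_sup_right
    rw [Subgroup.relIndex_sup_right] at h2
    have h3 : Nat.card L * L.relIndex (L ⊔ R) ∣ Nat.card L * Nat.card R := by
      rw [h1, ← h2, mul_comm (Nat.card L)]
      exact mul_dvd_mul_left _ (Subgroup.relIndex_dvd_card R L)
    exact Nat.dvd_of_mul_dvd_mul_left Nat.card_pos h3
  rw [Subgroup.mem_normalizer_iff_map_conj_eq]
  refine Subgroup.eq_of_le_of_card_ge ?_ (Subgroup.card_map_of_injective (MulAut.conj r).injective).ge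
  conv_lhs => rw [← closure_coprime_of_isPerfect p hperf]
  rw [MonoidHom.map_closure, Subgroup.closure_le]
  rintro _ ⟨x, ⟨hxL, hx⟩, rfl⟩
  have hmem : r * x * r⁻¹ ∈ L ⊔ R :=
    Subgroup.mul_mem _ (Subgroup.mul_mem _ (Subgroup.mem_sup_right hr) (Subgroup.mem_sup_left hxL))
      (Subgroup.inv_mem _ (Subgroup.mem_sup_right hr))
  have hx' : (orderOf (⟨r * x * r⁻¹, hmem⟩ : ↥(L ⊔ R))).Coprime p := by
    rw [Subgroup.orderOf_mk]
    show (orderOf ((MulAut.conj r) x)).Coprime p
    rwa [MulEquiv.orderOf_eq]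
  exact mem_of_isSubnormal_of_index_dvd hL.subgroupOf hidx hx'

end CfsgLib.Local
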