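import Cfsg.Agent.Lib.Cores.Components
import Cfsg.Agent.Lib.Local.AB
import Cfsg.Prelude.Def_ClassificationK

/-!
Groups `H` with `C_H(O_p(H)) ≤ O_p(H)` and their subgroups.
-/

namespace CfsgLib.Local

open Subgroup Cfsg CfsgLib.Cores

variable {G : Type*} [Group G] {H : Type*} [Group H]

/-- `C_G(O_p(G)) ≤ O_p(G)`; for `p = 2` this is `Cfsg.IsOfCharacteristicTwo`. -/
def HasCharP (p : ℕ) (G : Type*) [Group G] : Prop :=
  Subgroup.centralizer (pCore p G : Set G) ≤ pCore p G

theorem hasCharP_two_iff : HasCharP 2 G ↔ IsOfCharacteristicTwo G := Iff.rfl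

theorem map_centralizer_subset {S : Set G} (f : G →* H) :
    (Subgroup.centralizer S).map f ≤ Subgroup.centralizer (f '' S) := by
  rintro _ ⟨x, hx, rfl⟩
  refine Subgroup.mem_centralizer_iff.2 ?_
  rintro _ ⟨s, hs, rfl⟩
  rw [← map_mul, ← map_mul, Subgroup.mem_centralizer_iff.1 hx s hs]

theorem hasCharP_equiv {p : ℕ} (e : G ≃* H) (h : HasCharP p G) : HasCharP p H := by
  intro y hy
  rw [← map_pCore_equiv (p := p) e] at hy ⊢
  refine ⟨e.symm y, h (Subgroup.mem_centralizer_iff.2 fun g hg => e.injective ?_), e.apply_symm_apply y⟩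
  rw [map_mul, map_mul, e.apply_symm_apply]
  exact Subgroup.mem_centralizer_iff.1 hy (e g) ⟨g, hg, rfl⟩

/-- A subnormal subgroup of order prime to `p` lies in `O_{p'}(G)`. -/
theorem le_pPrimeCore_of_isSubnormal [Finite G] {p : ℕ} {K : Subgroup G} (hs : K.IsSubnormal)
    (hK : (Nat.card K).Coprime p) : K ≤ pPrimeCore p G := by
  suffices h : (pPrimeCore p K).map K.subtype ≤ pPrimeCore p G by
    refine le_trans ?_ h
    rw [pPrimeCore_eq_top_iff.2 hK, ← MonoidHom.range_eq_map, Subgroup.range_subtype]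
  clear hK
  induction hs with
  | top => exact map_pPrimeCore_le _ (fun x => ⟨⟨x, trivial⟩, rfl⟩)
  | step A B h_le _ hN ih =>
    refine le_trans ?_ ih
    have h2 : pPrimeCore p A =
        (pPrimeCore p (A.subgroupOf B)).map (Subgroup.subgroupOfEquivOfLe h_le).toMonoidHom :=
      (map_pPrimeCore_equiv _).symm
    rw [h2, Subgroup.map_map]
    refine le_of_eq_of_le ?_ (Subgroup.map_mono (f := B.subtype)
      (map_subtype_pPrimeCore_le_of_normal p (A.subgroupOf B)))
    rw [Subgroup.map_map]
    rfl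

theorem pPrimeCore_eq_bot_of_isSubnormal [Finite G] {p : ℕ} {K : Subgroup G} (hs : K.IsSubnormal)
    (hG : pPrimeCore p G = ⊥) : pPrimeCore p K = ⊥ := by
  have h : (pPrimeCore p K).map K.subtype ≤ pPrimeCore p G :=
    le_pPrimeCore_of_isSubnormal ((Subgroup.Normal.isSubnormal inferInstance).trans' hs) (by
      rw [Subgroup.card_map_of_injective K.subtype_injective]; exact coprime_card_pPrimeCore p)
  rw [hG, le_bot_iff, Subgroup.map_eq_bot_iff_of_injective _ K.subtype_injective] at h
  exact h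

theorem layer_eq_bot_of_isSubnormal {K : Subgroup G} (hs : K.IsSubnormal) (hG : layer G = ⊥) :
    layer K = ⊥ := by
  have h := map_subtype_layer_le hs
  rw [hG, le_bot_iff, Subgroup.map_eq_bot_iff_of_injective _ K.subtype_injective] at h
  exact h

theorem layer_eq_bot_of_isSolvable [Finite G] (h : Group.IsSolvable G) : layer G = ⊥ :=
  layer_eq_bot_iff.2 fun L hL => not_isSolvable_of_isQuasisimple hL.2 inferInstance

theorem generalizedFittingSubgroup_eq_pCore [Finite G] {p : ℕ} [Fact p.Prime]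
    (h1 : pPrimeCore p G = ⊥) (h2 : layer G = ⊥) : generalizedFittingSubgroup G = pCore p G := by
  rw [generalizedFittingSubgroup, h2, bot_sup_eq]
  refine le_antisymm ?_ (pCore_le_fittingSubgroup p)
  rw [fittingSubgroup_eq_iSup_pCore]
  refine iSup_le fun q => ?_
  have : Fact (q : ℕ).Prime := ⟨Nat.prime_of_mem_primeFactors q.2⟩
  by_cases hq : (q : ℕ) = p
  · rw [hq]
  · refine le_trans (le_pPrimeCore (p := p) ?_) (h1 ▸ bot_le)
    obtain ⟨n, hn⟩ := card_pCore_eq_pow (G := G) (q : ℕ)
    rw [hn]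
    exact ((Nat.coprime_primes Fact.out Fact.out).2 hq).pow_left n

theorem hasCharP_of [Finite G] {p : ℕ} [Fact p.Prime]
    (h1 : pPrimeCore p G = ⊥) (h2 : layer G = ⊥) : HasCharP p G := by
  have h := centralizer_generalizedFittingSubgroup_le (G := G)
  rwa [generalizedFittingSubgroup_eq_pCore h1 h2] at h

theorem HasCharP.pPrimeCore_eq_bot [Finite G] {p : ℕ} [Fact p.Prime] (h : HasCharP p G) :
    pPrimeCore p G = ⊥ := by
  have h' : pPrimeCore p G ≤ pCore p G :=
    (Subgroup.commutator_eq_bot_iff_le_centralizer.1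
      (by rw [Subgroup.commutator_comm]; exact commutator_pCore_pPrimeCore p)).trans h
  exact le_bot_iff.1 ((le_inf h' le_rfl).trans (pCore_inf_pPrimeCore p).le)

theorem HasCharP.layer_eq_bot [Finite G] {p : ℕ} [Fact p.Prime] (h : HasCharP p G) : layer G = ⊥ := by
  refine layer_eq_bot_iff.2 fun L hL => component_not_le_of_isSolvable hL
    (S := pCore p G) ?_ ?_
  · have := (isPGroup_pCore (G := G) p).isNilpotent
    infer_instance
  · refine (component_le_layer hL).trans ((layer_le_centralizer_fittingSubgroup).trans ?_)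
    exact (Subgroup.centralizer_le (pCore_le_fittingSubgroup p)).trans h

theorem HasCharP.generalizedFittingSubgroup_eq [Finite G] {p : ℕ} [Fact p.Prime] (h : HasCharP p G) :
    generalizedFittingSubgroup G = pCore p G :=
  generalizedFittingSubgroup_eq_pCore h.pPrimeCore_eq_bot h.layer_eq_bot

theorem HasCharP.of_isSubnormal [Finite G] {p : ℕ} [Fact p.Prime] (h : HasCharP p G) {K : Subgroup G}
    (hK : K.IsSubnormal) : HasCharP p K :=
  hasCharP_of (pPrimeCore_eq_bot_of_isSubnormal hK h.pPrimeCore_eq_bot)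
    (layer_eq_bot_of_isSubnormal hK h.layer_eq_bot)

/-- A subgroup containing `O_p` of a group of characteristic `p` has characteristic `p`. -/
theorem HasCharP.of_pCore_le [Finite G] {p : ℕ} (h : HasCharP p G) {K : Subgroup G}
    (hK : pCore p G ≤ K) : HasCharP p K := by
  intro x hx
  have h1 := pCore_subgroupOf_le p K
  refine h1 (Subgroup.mem_subgroupOf.2 (h (Subgroup.mem_centralizer_iff.2 fun g hg => ?_)))
  exact congrArg Subtype.val
    (Subgroup.mem_centralizer_iff.1 hx ⟨g, hK hg⟩ (h1 (Subgroup.mem_subgroupOf.2 hg)))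

/-- If `M` has characteristic `p` and the `p`-subgroup `U ≤ M` has `C_G(U) ≤ M`, then `N_G(U)` has
characteristic `p`. -/
theorem hasCharP_normalizer [Finite G] {p : ℕ} [hp : Fact p.Prime] {M U : Subgroup G}
    (hM : HasCharP p M) (hU : IsPGroup p U) (hUM : U ≤ M)
    (hC : Subgroup.centralizer (U : Set G) ≤ M) :
    HasCharP p ↥(Subgroup.normalizer (U : Set G)) := by
  set N := Subgroup.normalizer (U : Set G)
  set Q := (pCore p M).map M.subtype with hQdef
  have hQ : IsPGroup p Q := (isPGroup_pCore p).map _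
  have hMQ : M ≤ Subgroup.normalizer (Q : Set G) := by
    have := Subgroup.le_normalizer_map (H := pCore p M) M.subtype
    rwa [Subgroup.normalizer_eq_top, ← MonoidHom.range_eq_map, Subgroup.range_subtype] at this
  set W := Q ⊓ Subgroup.centralizer (U : Set G) with hWdef
  have hWN : W ≤ N := inf_le_right.trans (Subgroup.centralizer_le_normalizer _)
  have hUN : U ≤ N := Subgroup.le_normalizer
  have hUp : U.subgroupOf N ≤ pCore p N := by
    have : (U.subgroupOf N).Normal := Subgroup.normal_subgroupOf_of_le_normalizer le_rfl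
    exact le_pCore hU.comap_subtype
  -- a subgroup of `C_G(U)` normalizes `Q` and `W`
  have hkey : ∀ x : G, x ∈ Subgroup.centralizer (U : Set G) → (orderOf x).Coprime p →
      (∀ w ∈ W, x * w = w * x) → x = 1 := by
    intro x hxU hxp hxW
    have hxQ : ∀ q ∈ Q, x * q = q * x :=
      commute_of_commute_fixedPoints hU (fun u hu => (Subgroup.mem_centralizer_iff.1 hxU u hu).symm) hxp
        Q hQ (hUM.trans hMQ) (hMQ (hC hxU))
        fun q hq hq' => hxW q ⟨hq, Subgroup.mem_centralizer_iff.2 hq'⟩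
    have h1 : (⟨x, hC hxU⟩ : M) ∈ pCore p M := hM (Subgroup.mem_centralizer_iff.2 fun m hm =>
      Subtype.ext (hxQ m ⟨m, hm, rfl⟩).symm)
    obtain ⟨k, hk⟩ := isPGroup_pCore p ⟨_, h1⟩
    have hk' : x ^ p ^ k = 1 := congrArg (fun y : ↥(pCore p M) => ((y : M) : G)) hk
    have := orderOf_dvd_of_pow_eq_one hk'
    exact orderOf_eq_one_iff.1 (Nat.eq_one_of_dvd_coprimes (hxp.pow_right k) dvd_rfl this)
  apply hasCharP_of
  · rw [eq_bot_iff]
    intro d hd
    have hdU : (d : G) ∈ Subgroup.centralizer (U : Set G) := by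
      refine Subgroup.mem_centralizer_iff.2 fun u hu => ?_
      have hc := Subgroup.commutator_eq_bot_iff_le_centralizer.1 (commutator_pCore_pPrimeCore (G := N) p)
      exact congrArg Subtype.val
        (Subgroup.mem_centralizer_iff.1 (hc (hUp (show (⟨u, hUN hu⟩ : N) ∈ U.subgroupOf N from hu))) d hd).symm
    refine Subgroup.mem_bot.2 (Subtype.ext (hkey d hdU ?_ fun w hw => ?_))
    · refine Nat.Coprime.coprime_dvd_left ?_ (coprime_card_pPrimeCore (G := N) p)
      rw [Subgroup.orderOf_coe]
      exact Subgroup.orderOf_dvd_natCard _ hd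
    · set c := (d : G) * w * (d : G)⁻¹ * w⁻¹
      have hcQ : c ∈ Q := Q.mul_mem ((Subgroup.mem_normalizer_iff.1 (hMQ (hC hdU)) w).1 hw.1) (Q.inv_mem hw.1)
      have hcN : (d * ⟨w, hWN hw⟩ * d⁻¹ * (⟨w, hWN hw⟩ : N)⁻¹) ∈ pPrimeCore p N := by
        have : (pPrimeCore p N).Normal := inferInstance
        simpa [mul_assoc] using (pPrimeCore p N).mul_mem hd (this.conj_mem _ ((pPrimeCore p N).inv_mem hd) ⟨w, hWN hw⟩)
      have h1 : (orderOf c).Coprime p := by
        refine Nat.Coprime.coprime_dvd_left ?_ (coprime_card_pPrimeCore (G := N) p)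
        have := Subgroup.orderOf_dvd_natCard _ hcN
        rwa [← Subgroup.orderOf_coe] at this
      obtain ⟨k, hk⟩ := hQ ⟨c, hcQ⟩
      have h2 := orderOf_dvd_of_pow_eq_one (congrArg Subtype.val hk : c ^ p ^ k = 1)
      replace h2 := orderOf_eq_one_iff.1 (Nat.eq_one_of_dvd_coprimes (h1.pow_right k) dvd_rfl h2)
      rwa [mul_inv_eq_one, mul_inv_eq_iff_eq_mul] at h2
  · refine layer_eq_bot_iff.2 fun L hL => ?_
    have hLU : L.map N.subtype ≤ Subgroup.centralizer (U : Set G) := by
      rintro _ ⟨l, hl, rfl⟩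
      refine Subgroup.mem_centralizer_iff.2 fun u hu => ?_
      have hc := Subgroup.commutator_eq_bot_iff_le_centralizer.1 (component_commutator_fittingSubgroup hL) hl
      exact congrArg Subtype.val (Subgroup.mem_centralizer_iff.1 hc ⟨u, hUN hu⟩
        (pCore_le_fittingSubgroup p (hUp (show (⟨u, hUN hu⟩ : N) ∈ U.subgroupOf N from hu))))
    have hWn : ∀ g ∈ Subgroup.centralizer (U : Set G), ∀ w ∈ W, g * w * g⁻¹ ∈ W := fun g hg w hw =>
      ⟨(Subgroup.mem_normalizer_iff.1 (hMQ (hC hg)) w).1 hw.1,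
        Subgroup.mul_mem _ (Subgroup.mul_mem _ hg hw.2) (Subgroup.inv_mem _ hg)⟩
    have hLn : L ≤ Subgroup.normalizer ((W.subgroupOf N : Subgroup N) : Set N) := by
      intro l hl
      have hl' := hLU ⟨l, hl, rfl⟩
      refine Subgroup.mem_normalizer_iff.2 fun w => ⟨fun hw => hWn _ hl' _ hw, fun hw => ?_⟩
      have := hWn _ (Subgroup.inv_mem _ hl') _ hw
      change (w : G) ∈ W
      simpa [mul_assoc] using this
    have hLW := component_commutator_solvable hL (S := W.subgroupOf N) (by
      have hWp : IsPGroup p ↥(W.subgroupOf N) := (hQ.to_le inf_le_left).comap_subtype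
      have := hWp.isNilpotent
      infer_instance) hLn
    have hperf : ⁅L.map N.subtype, L.map N.subtype⁆ = L.map N.subtype := by
      rw [← Subgroup.map_commutator, component_commutator_self hL]
    have hall : ∀ x ∈ L.map N.subtype, (orderOf x).Coprime p → x = 1 := by
      rintro _ ⟨l, hl, rfl⟩ hxp
      refine hkey _ (hLU ⟨l, hl, rfl⟩) hxp fun w hw => ?_
      exact congrArg Subtype.val (Subgroup.mem_centralizer_iff.1
        (Subgroup.commutator_eq_bot_iff_le_centralizer.1 hLW hl) ⟨w, hWN hw⟩ hw).symm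
    have hab := le_centralizer_of_isPerfect (p := p) (Q := L.map N.subtype) hperf Subgroup.le_normalizer
      fun x hx hxp => by rw [hall x hx hxp]; exact Subgroup.one_mem _
    refine component_ne_bot hL ?_
    have h0 := Subgroup.commutator_eq_bot_iff_le_centralizer.2 hab
    rw [hperf, Subgroup.map_eq_bot_iff_of_injective _ N.subtype_injective] at h0
    exact h0

end CfsgLib.Local
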