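import Cfsg.Agent.Lib.Cores.PComponents
import Cfsg.Prelude.Def_ClassificationStages

/-!
When is a p-component a component.
-/

namespace CfsgLib.Local

open Subgroup Cfsg CfsgLib.Cores
open scoped commutatorElement

/-- A perfect central extension of a quasisimple group is quasisimple. -/
theorem isQuasisimple_of_central_quotient {K : Type*} [Group K] (hp : Group.IsPerfect K) (M : Subgroup K)
    [M.Normal] (hM : M ≤ center K) (h : IsQuasisimple (K ⧸ M)) : IsQuasisimple K := by
  refine ⟨hp, ?_⟩
  set π := QuotientGroup.mk' M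
  set σ := QuotientGroup.mk' (center (K ⧸ M))
  have hker : (σ.comp π).ker = center K := by
    refine le_antisymm (fun z hz => ?_) fun z hz => ?_
    · rw [← MonoidHom.comap_ker, QuotientGroup.ker_mk', mem_comap] at hz
      have h2 : ⁅⁅(⊤ : Subgroup K), zpowers z⁆, (⊤ : Subgroup K)⁆ = ⊥ := by
        refine commutator_eq_bot_iff_le_centralizer.2 ?_
        rw [commutator_le]
        intro a _ b hb
        refine mem_centralizer_iff.2 fun g _ => mem_center_iff.1 (hM ?_) g
        rw [← QuotientGroup.ker_mk' M, MonoidHom.mem_ker, map_commutatorElement,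
          commutatorElement_eq_one_iff_mul_comm]
        obtain ⟨i, rfl⟩ := mem_zpowers_iff.1 hb
        rw [map_zpow]
        exact (Commute.zpow_right (show Commute (π a) (π z) from mem_center_iff.1 hz _) i).eq
      have h3 : ⁅⁅(⊤ : Subgroup K), (⊤ : Subgroup K)⁆, zpowers z⁆ = ⊥ := by
        refine commutator_commutator_eq_bot_of_rotate h2 ?_
        rw [commutator_comm (zpowers z) ⊤]; exact h2
      rw [← _root_.commutator_def, hp.commutator_eq_top, commutator_top_left_eq_bot_iff_le_center] at h3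
      exact h3 (mem_zpowers z)
    · rw [← MonoidHom.comap_ker, QuotientGroup.ker_mk', mem_comap, mem_center_iff]
      intro g
      obtain ⟨g, rfl⟩ := QuotientGroup.mk'_surjective M g
      rw [← map_mul, ← map_mul, mem_center_iff.1 hz g]
  let e : K ⧸ center K ≃* (K ⧸ M) ⧸ center (K ⧸ M) :=
    (QuotientGroup.quotientMulEquivOfEq hker.symm).trans
      (QuotientGroup.quotientKerEquivOfSurjective _
        ((QuotientGroup.mk'_surjective _).comp (QuotientGroup.mk'_surjective _)))
  have := h.2
  have : Nontrivial (K ⧸ center K) := e.toEquiv.nontrivial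
  exact IsSimpleGroup.isSimpleGroup_of_surjective e.symm.toMonoidHom e.symm.surjective

variable {G : Type*} [Group G] [Finite G] {p : ℕ}

theorem isPerfect_of_isPComponent {K : Subgroup G} (hK : IsPComponent p K) : Group.IsPerfect K :=
  Subgroup.isPerfect_iff.2 (pComponent_commutator_self hK)

theorem commutator_pPrimeCore_eq_bot {K : Subgroup G} (hK : IsPComponent p K) (hc : IsComponent K) :
    ⁅K, pPrimeCore p G⁆ = ⊥ := by
  refine (component_le_or_commutator_eq_bot hc (Normal.isSubnormal inferInstance)).resolve_left fun h => ?_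
  refine component_ne_bot hK.2.1 ?_
  rw [Subgroup.map_eq_bot_iff, QuotientGroup.ker_mk']
  exact h

theorem isQuasisimple_of_pPrimeCore_le_center {K : Subgroup G} (hK : IsPComponent p K)
    (h : pPrimeCore p K ≤ center K) : IsQuasisimple K :=
  isQuasisimple_of_central_quotient (isPerfect_of_isPComponent hK) _ h
    (isQuasisimple_quotient_pPrimeCore hK)

theorem isComponent_of_commutator_eq_bot {K : Subgroup G} (hK : IsPComponent p K)
    (h : ⁅K, pPrimeCore p G⁆ = ⊥) : IsComponent K := by
  refine ⟨hK.1, isQuasisimple_of_pPrimeCore_le_center hK fun x hx => mem_center_iff.2 fun g => ?_⟩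
  have hx' : (x : G) ∈ pPrimeCore p G :=
    map_subtype_pPrimeCore_le_of_isSubnormal p hK.1 ⟨x, hx, rfl⟩
  exact Subtype.ext (mem_centralizer_iff.1 (commutator_eq_bot_iff_le_centralizer.1 h g.2) x hx').symm

theorem map_pPrimeCore_of_map_subgroupOf {C K : Subgroup G} (hKC : K ≤ C) :
    ((pPrimeCore p ↥(K.subgroupOf C)).map (K.subgroupOf C).subtype).map C.subtype =
      (pPrimeCore p ↥K).map K.subtype := by
  conv_rhs => rw [← map_pPrimeCore_equiv (p := p) (Subgroup.subgroupOfEquivOfLe hKC)]
  rw [Subgroup.map_map, Subgroup.map_map]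
  rfl

variable [hp : Fact p.Prime]

theorem map_conj_eq_of_centralizes {K : Subgroup G} (hK : IsPComponent p K) {e : G}
    (he : QuotientGroup.mk' (pPrimeCore p G) e ∈
      Subgroup.centralizer (K.map (QuotientGroup.mk' (pPrimeCore p G)) : Set (G ⧸ pPrimeCore p G))) :
    K.map (MulAut.conj e).toMonoidHom = K := by
  refine pComponent_eq_of_map_eq (isPComponent_map_equiv (MulAut.conj e) hK) hK (SetLike.ext fun q => ?_)
  have hfix : ∀ k ∈ K, QuotientGroup.mk' (pPrimeCore p G) (e * k * e⁻¹) = QuotientGroup.mk' (pPrimeCore p G) k := by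
    intro k hk
    rw [map_mul, map_mul, map_inv, mul_inv_eq_iff_eq_mul]
    exact (mem_centralizer_iff.1 he _ (mem_map_of_mem _ hk)).symm
  constructor
  · rintro ⟨_, ⟨k, hk, rfl⟩, rfl⟩
    exact ⟨k, hk, (hfix k hk).symm⟩
  · rintro ⟨k, hk, rfl⟩
    exact ⟨e * k * e⁻¹, ⟨k, hk, rfl⟩, hfix k hk⟩

theorem comm_mem_pPrimeCore_of_centralizes {K : Subgroup G} (hK : IsPComponent p K) {e : G}
    (he : QuotientGroup.mk' (pPrimeCore p G) e ∈
      Subgroup.centralizer (K.map (QuotientGroup.mk' (pPrimeCore p G)) : Set (G ⧸ pPrimeCore p G)))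
    {k : G} (hk : k ∈ K) : e * k * e⁻¹ * k⁻¹ ∈ (pPrimeCore p K).map K.subtype := by
  rw [pPrimeCore_pComponent hK]
  refine ⟨?_, K.mul_mem ?_ (K.inv_mem hk)⟩
  · show e * k * e⁻¹ * k⁻¹ ∈ pPrimeCore p G
    rw [← QuotientGroup.ker_mk' (pPrimeCore p G), MonoidHom.mem_ker, map_mul, map_mul, map_mul, map_inv,
      map_inv, (mem_centralizer_iff.1 he _ (mem_map_of_mem _ hk)).symm]
    group
  · exact (map_conj_eq_of_centralizes hK he).le ⟨k, hk, rfl⟩

omit hp in
/-- A p-component is the only p-component of itself. -/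
theorem isPComponent_top_self {K : Subgroup G} (hK : IsPComponent p K) :
    IsPComponent p (⊤ : Subgroup K) := by
  refine ⟨IsSubnormal.top, ?_, fun H hH _ he => ?_⟩
  · rw [Subgroup.map_top_of_surjective _ (QuotientGroup.mk'_surjective _)]
    exact isComponent_top (isQuasisimple_quotient_pPrimeCore hK)
  · refine Subgroup.map_injective K.subtype_injective ?_
    rw [← MonoidHom.range_eq_map, range_subtype]
    refine hK.2.2 _ (hH.trans' hK.1) (map_subtype_le H) (le_antisymm (map_mono (map_subtype_le H)) ?_)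
    rintro _ ⟨k, hk, rfl⟩
    obtain ⟨h, hh, hhk⟩ : QuotientGroup.mk' (pPrimeCore p K) ⟨k, hk⟩ ∈ H.map (QuotientGroup.mk' (pPrimeCore p K)) :=
      he ▸ mem_map_of_mem _ (mem_top _)
    refine ⟨h, mem_map_of_mem _ hh, ?_⟩
    rw [QuotientGroup.mk'_eq_mk'] at hhk ⊢
    obtain ⟨o, ho, hok⟩ := hhk
    exact ⟨o, map_subtype_pPrimeCore_le_of_isSubnormal p hK.1 ⟨o, ho, rfl⟩, congrArg Subtype.val hok⟩

omit hp in
theorem pLayerOf_pComponentOf {H K : Subgroup G} (hK : IsPComponentOf p K H) : pLayerOf p K = K := by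
  have htop : pLayer p ↥(K.subgroupOf H) = ⊤ := top_le_iff.1 (pComponent_le_pLayer (isPComponent_top_self hK.2))
  have hK' : pLayer p ↥K = ⊤ := by
    rw [← map_pLayer_equiv (Subgroup.subgroupOfEquivOfLe hK.1), htop]
    exact Subgroup.map_top_of_surjective _ (MulEquiv.surjective _)
  rw [pLayerOf, hK', ← MonoidHom.range_eq_map, range_subtype]

theorem eq_of_le_pComponent {J K : Subgroup G} (hJ : IsPComponent p J) (hK : IsPComponent p K) (h : K ≤ J) :
    K = J :=
  pComponent_eq_of_map_eq hK hJ (component_eq_of_le hK.2.1 hJ.2.1 (map_mono h))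

/-- A subgroup of a p-component `J` centralizing `O_{p'}` and with the same image is `J`. -/
theorem eq_pComponent_of_le {J K : Subgroup G} (hJ : IsPComponent p J) (hKJ : K ≤ J)
    (hc : ⁅K, pPrimeCore p G⁆ = ⊥) (hcard : (pPrimeCore p J).index ≤ (pPrimeCore p K).index) : K = J := by
  set π := QuotientGroup.mk' (pPrimeCore p G)
  have hcardmap : ∀ L : Subgroup G, Nat.card (L.map π) = ((pPrimeCore p G).subgroupOf L).index := by
    intro L
    have h1 := Subgroup.index_ker (π.comp L.subtype)
    rw [← MonoidHom.comap_ker, QuotientGroup.ker_mk', MonoidHom.range_comp, range_subtype] at h1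
    exact h1.symm
  have hJo : (pPrimeCore p G).subgroupOf J = pPrimeCore p J := by
    rw [← Subgroup.inf_subgroupOf_right, ← pPrimeCore_pComponent hJ]
    exact Subgroup.comap_map_eq_self_of_injective J.subtype_injective _
  have hKo : (pPrimeCore p G).subgroupOf K ≤ pPrimeCore p K := by
    intro k hk
    obtain ⟨k', hk', he⟩ := pPrimeCore_inf_le p K ⟨hk, k.2⟩
    exact (Subtype.ext he : k' = k) ▸ hk'
  have heq : K.map π = J.map π := by
    refine Subgroup.eq_of_le_of_card_ge (map_mono hKJ) ?_
    rw [hcardmap, hcardmap, hJo]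
    exact hcard.trans (Nat.le_of_dvd (Nat.pos_of_ne_zero Subgroup.index_ne_zero_of_finite)
      (Subgroup.index_dvd_of_le hKo))
  have hJle : J ≤ Subgroup.normalizer (K : Set G) := by
    refine le_trans ?_ (sup_le Subgroup.le_normalizer ?_ : K ⊔ pPrimeCore p G ≤ _)
    · rw [← sup_pPrimeCore_eq_comap_map, heq]
      exact Subgroup.le_comap_map _ _
    · refine le_trans ?_ (Subgroup.centralizer_le_normalizer (K : Set G))
      rw [← commutator_eq_bot_iff_le_centralizer, commutator_comm]
      exact hc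
  exact hJ.2.2 K (IsSubnormal.step _ _ hKJ hJ.1 ((normal_subgroupOf_iff_le_normalizer hKJ).2 hJle)) hKJ heq

end CfsgLib.Local
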