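import Cfsg.Agent.Lib.Transfer.SmallSylow

/-!
Elements of odd order normalizing small or dihedral-like 2-groups; the Frobenius condition at 2.
-/

namespace CfsgLib.Local

open Subgroup Cfsg CfsgLib.Transfer

variable {G : Type*} [Group G] [Finite G] {p q : ℕ} [hp : Fact p.Prime] [hq : Fact q.Prime]

/-- A `q`-element normalizing a `p`-group and fixing a subgroup of index at most `p` centralizes it,
unless `q` divides `p - 1`. -/
theorem centralizes_of_fixed_le {Q : Subgroup G} (hQ : IsPGroup p Q) {g : G}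
    (hg : g ∈ normalizer (Q : Set G)) {k : ℕ} (hk : orderOf g = q ^ k) (hqp : ¬ q ∣ p * (p - 1))
    (h : Nat.card Q ≤ p * Nat.card ↥(Q ⊓ centralizer ({g} : Set G))) :
    g ∈ centralizer (Q : Set G) := by
  obtain ⟨a, ha⟩ := IsPGroup.iff_card.1 hQ
  obtain ⟨j, hj, hj'⟩ := (Nat.dvd_prime_pow hp.out).1
    (ha ▸ card_dvd_of_le (inf_le_left : Q ⊓ centralizer ({g} : Set G) ≤ Q))
  have hmod := card_modEq_inf_centralizer Q hg hk
  rw [ha, hj'] at h hmod
  rcases eq_or_lt_of_le hj with rfl | hlt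
  · have heq := eq_of_le_of_card_ge (inf_le_left : Q ⊓ centralizer ({g} : Set G) ≤ Q) (by rw [hj', ha])
    rw [mem_centralizer_iff]
    intro y hy
    exact mem_centralizer_singleton_iff.1 (inf_eq_left.1 heq hy)
  · exfalso
    have hp1 : a = j + 1 := by
      rw [← pow_succ'] at h
      have := (Nat.pow_le_pow_iff_right hp.out.one_lt).1 h
      omega
    subst hp1
    refine hqp ?_
    have hd : q ∣ p ^ (j + 1) - p ^ j :=
      (Nat.modEq_iff_dvd' (Nat.pow_le_pow_right hp.out.pos j.le_succ)).1 hmod.symm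
    rw [pow_succ, ← Nat.mul_sub_one] at hd
    rcases hq.out.dvd_mul.1 hd with h1 | h1
    · exact (hq.out.dvd_of_dvd_pow h1).trans (Dvd.intro _ rfl)
    · exact h1.trans (Dvd.intro_left _ rfl)

/-- An element of odd prime power order normalizing a cyclic 2-group centralizes it. -/
theorem centralizes_cyclic_two {g : G} {k : ℕ} (hk : orderOf g = q ^ k) (hq2 : q ≠ 2) :
    ∀ (n : ℕ) (x : G), orderOf x = 2 ^ n → g ∈ normalizer (zpowers x : Set G) → g * x = x * g := by
  have h2 : Fact (Nat.Prime 2) := ⟨Nat.prime_two⟩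
  intro n
  induction n with
  | zero =>
    intro x hx _
    rw [pow_zero, orderOf_eq_one_iff] at hx
    simp [hx]
  | succ n ih =>
    intro x hx hg
    have hx2 : orderOf (x ^ 2) = 2 ^ n := by
      rw [orderOf_pow' x two_ne_zero, hx, Nat.gcd_eq_right (dvd_pow_self 2 n.succ_ne_zero), pow_succ,
        Nat.mul_div_cancel _ two_pos]
    have hg2 : g ∈ normalizer (zpowers (x ^ 2) : Set G) := by
      have key : ∀ u ∈ normalizer (zpowers x : Set G), ∀ y ∈ zpowers (x ^ 2), u * y * u⁻¹ ∈ zpowers (x ^ 2) := by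
        intro u hu y hy
        obtain ⟨i, rfl⟩ := mem_zpowers_iff.1 hy
        obtain ⟨j, hj⟩ := mem_zpowers_iff.1 ((mem_normalizer_iff.1 hu x).1 (mem_zpowers x))
        refine mem_zpowers_iff.2 ⟨j * i, ?_⟩
        rw [← conj_zpow, ← conj_pow, ← hj, zpow_mul]
        congr 1
        rw [← zpow_natCast, ← zpow_natCast, ← zpow_mul, ← zpow_mul, mul_comm]
      refine mem_normalizer_iff.2 fun y => ⟨key g hg y, fun hy => ?_⟩
      simpa [mul_assoc] using key g⁻¹ (inv_mem hg) _ hy
    have hc := ih (x ^ 2) hx2 hg2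
    have hle : zpowers (x ^ 2) ≤ zpowers x ⊓ centralizer ({g} : Set G) :=
      le_inf (zpowers_le.2 (pow_mem (mem_zpowers x) 2)) (zpowers_le.2 (mem_centralizer_singleton_iff.2 hc.symm))
    have hQ : IsPGroup 2 (zpowers x) := IsPGroup.of_card (n := n + 1) (by rw [Nat.card_zpowers, hx])
    have hcard : Nat.card (zpowers x) ≤ 2 * Nat.card ↥(zpowers x ⊓ centralizer ({g} : Set G)) := by
      have h1 := card_le_of_le hle
      rw [Nat.card_zpowers, hx2] at h1
      rw [Nat.card_zpowers, hx, pow_succ']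
      omega
    have := centralizes_of_fixed_le hQ hg hk (by
      simpa using fun h => hq2 ((Nat.prime_dvd_prime_iff_eq hq.out Nat.prime_two).1 h)) hcard
    exact (mem_centralizer_iff.1 this x (mem_zpowers x)).symm

omit hp hq in
/-- The Frobenius condition may be checked on elements of prime power order. -/
theorem frobeniusCond_of_prime_pow [hp : Fact p.Prime] (h : ∀ q : ℕ, q.Prime → q ≠ p → q ∣ Nat.card G →
    ∀ Q : Subgroup G, IsPGroup p Q → ∀ g ∈ normalizer (Q : Set G), ∀ k, orderOf g = q ^ k →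
      g ∈ centralizer (Q : Set G)) : FrobeniusCond p G := by
  intro Q hQ g hg hco
  refine mem_of_prime_pow_powers _ (isOfFinOrder_of_finite g) fun x hx q k hq hk ho => ?_
  refine h q hq ?_ ((dvd_pow_self q hk.ne').trans (ho ▸ orderOf_dvd_natCard x)) Q hQ x (zpowers_le.2 hg hx) k ho
  rintro rfl
  exact Nat.Prime.not_coprime_iff_dvd.2 ⟨q, hq,
    (dvd_pow_self q hk.ne').trans (ho ▸ orderOf_dvd_of_mem_zpowers hx), dvd_rfl⟩ hco

end CfsgLib.Local
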