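import Cfsg.Agent.Lib.PGroup.ElemAbelian
import Mathlib.GroupTheory.Sylow

/-!
Centralizers of involutions in elementary abelian 2-groups they normalize; intermediate subgroups.
-/

namespace CfsgLib.Local

open Subgroup Cfsg CfsgLib.PGroup

variable {G : Type*} [Group G]

/-- An element acting as an involution on an elementary abelian 2-group fixes at least its square root. -/
theorem card_le_sq_inf_centralizer [Finite G] {E : Subgroup G} (hE : IsElementaryAbelian 2 E) {a : G}
    (ha : a * a ∈ Subgroup.centralizer (E : Set G)) (hn : ∀ e ∈ E, a * e * a⁻¹ ∈ E) :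
    Nat.card E ≤ Nat.card ↥(E ⊓ Subgroup.centralizer ({a} : Set G)) ^ 2 := by
  have hc : ∀ x ∈ E, ∀ y ∈ E, x * y = y * x := fun x hx y hy => (elemAb_comm hE hx hy)
  let f : E →* E :=
    { toFun := fun e => ⟨(e : G) * (a * e * a⁻¹), E.mul_mem e.2 (hn e e.2)⟩
      map_one' := Subtype.ext (by simp)
      map_mul' := fun x y => Subtype.ext (by
        show (x : G) * y * (a * (x * y) * a⁻¹) = x * (a * x * a⁻¹) * (y * (a * y * a⁻¹))
        have h := hc y y.2 _ (hn x x.2)
        calc (x : G) * y * (a * (x * y) * a⁻¹) = x * (y * (a * x * a⁻¹)) * (a * y * a⁻¹) := by group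
          _ = x * ((a * x * a⁻¹) * y) * (a * y * a⁻¹) := by rw [h]
          _ = _ := by group) }
  have hker : Nat.card f.ker ≤ Nat.card ↥(E ⊓ Subgroup.centralizer ({a} : Set G)) := by
    refine Nat.card_le_card_of_injective (fun e => (⟨(e : E), (e : E).2, ?_⟩ : ↥(E ⊓ Subgroup.centralizer ({a} : Set G)))) ?_
    · have h : ((e : E) : G) * (a * (e : E) * a⁻¹) = 1 := congrArg Subtype.val (MonoidHom.mem_ker.1 e.2)
      have h2 : ((e : E) : G) * (e : E) = 1 := by rw [← pow_two]; exact hE.2 _ (e : E).2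
      have h3 : a * (e : E) * a⁻¹ = (e : E) := mul_left_cancel (h.trans h2.symm)
      exact Subgroup.mem_centralizer_singleton_iff.2 (mul_inv_eq_iff_eq_mul.1 h3).symm
    · intro x y h
      exact Subtype.ext (Subtype.ext (congrArg (fun z : ↥(E ⊓ _) => (z : G)) h))
  have hrange : Nat.card f.range ≤ Nat.card ↥(E ⊓ Subgroup.centralizer ({a} : Set G)) := by
    refine Nat.card_le_card_of_injective (fun e => (⟨(e : E), (e : E).2, ?_⟩ : ↥(E ⊓ Subgroup.centralizer ({a} : Set G)))) ?_
    · obtain ⟨x, hx⟩ := e.2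
      have hx' : (x : G) * (a * x * a⁻¹) = ((e : E) : G) := congrArg Subtype.val hx
      have h2 : a * a * (x : G) * (a * a)⁻¹ = x := by
        rw [← Subgroup.mem_centralizer_iff.1 ha x x.2, mul_inv_cancel_right]
      refine Subgroup.mem_centralizer_singleton_iff.2 (mul_inv_eq_iff_eq_mul.1 ?_).symm
      rw [← hx']
      calc a * ((x : G) * (a * x * a⁻¹)) * a⁻¹ = (a * x * a⁻¹) * (a * a * x * (a * a)⁻¹) := by group
        _ = _ := by rw [h2, hc _ (hn x x.2) x x.2]
    · intro x y h
      exact Subtype.ext (Subtype.ext (congrArg (fun z : ↥(E ⊓ _) => (z : G)) h))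
  have hcard : Nat.card f.ker * Nat.card f.range = Nat.card E := by
    rw [← Subgroup.index_ker]; exact Subgroup.card_mul_index _
  rw [← hcard, sq]
  exact Nat.mul_le_mul hker hrange

/-- Intermediate subgroups of an elementary abelian `p`-group. -/
theorem exists_between_card [Finite G] {p : ℕ} [hp : Fact p.Prime] {X D : Subgroup G}
    (hD : IsElementaryAbelian p D) (hXD : X ≤ D) {m : ℕ} (hX : Nat.card X ≤ p ^ m) (hm : p ^ m ≤ Nat.card D) :
    ∃ F : Subgroup G, X ≤ F ∧ F ≤ D ∧ Nat.card F = p ^ m ∧ IsElementaryAbelian p F := by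
  obtain ⟨n, hn⟩ := IsPGroup.iff_card.1 (elemAb_isPGroup hD)
  obtain ⟨k, hk⟩ := IsPGroup.iff_card.1 ((elemAb_isPGroup hD).to_le hXD)
  rw [hn] at hm
  rw [hk] at hX
  have hkm : k ≤ m := (Nat.pow_le_pow_iff_right hp.out.one_lt).1 hX
  have hmn : m ≤ n := (Nat.pow_le_pow_iff_right hp.out.one_lt).1 hm
  obtain ⟨K, hK, hle⟩ := Sylow.exists_subgroup_card_pow_prime_le p (G := D) (n := k) (m := m)
    (hn ▸ pow_dvd_pow p hmn) (X.subgroupOf D)
    (by rw [Nat.card_congr (Subgroup.subgroupOfEquivOfLe hXD).toEquiv, hk]) hkm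
  refine ⟨K.map D.subtype, fun x hx => ⟨⟨x, hXD hx⟩, hle hx, rfl⟩, Subgroup.map_subtype_le K, ?_,
    elemAb_mono hD (Subgroup.map_subtype_le K)⟩
  rw [Subgroup.card_map_of_injective D.subtype_injective, hK]

/-- A nontrivial normal subgroup of a `p`-group meets the centre. -/
theorem exists_central_mem [Finite G] {p : ℕ} [hp : Fact p.Prime] (hG : IsPGroup p G) {E : Subgroup G}
    [hE : E.Normal] (hne : E ≠ ⊥) : ∃ e ∈ E, e ≠ 1 ∧ ∀ x : G, x * e = e * x := by
  let φ : ConjAct G →* Equiv.Perm E :=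
    { toFun := fun g =>
        { toFun := fun e => ⟨g • (e : G), by
            rw [ConjAct.smul_def]; exact hE.conj_mem _ e.2 _⟩
          invFun := fun e => ⟨g⁻¹ • (e : G), by
            rw [ConjAct.smul_def]; exact hE.conj_mem _ e.2 _⟩
          left_inv := fun e => Subtype.ext (inv_smul_smul g (e : G))
          right_inv := fun e => Subtype.ext (smul_inv_smul g (e : G)) }
      map_one' := Equiv.ext fun e => Subtype.ext (one_smul _ (e : G))
      map_mul' := fun g h => Equiv.ext fun e => Subtype.ext (mul_smul g h (e : G)) }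
  let act : MulAction (ConjAct G) E := MulAction.compHom E φ
  have hP : IsPGroup p (ConjAct G) := hG
  have hd : p ∣ Nat.card E := ((hG.to_subgroup E).card_eq_or_dvd).resolve_left
    fun h => hne (Subgroup.eq_bot_of_card_eq _ h)
  have h1 : (1 : E) ∈ MulAction.fixedPoints (ConjAct G) E := fun g => Subtype.ext (smul_one g)
  obtain ⟨e, he, hne1⟩ := hP.exists_fixed_point_of_prime_dvd_card_of_fixed_point E hd h1
  refine ⟨e, e.2, fun h => hne1 (Subtype.ext h).symm, fun x => ?_⟩
  have h := congrArg Subtype.val (he (ConjAct.toConjAct x))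
  change ConjAct.toConjAct x • (e : G) = e at h
  rw [ConjAct.toConjAct_smul] at h
  exact mul_inv_eq_iff_eq_mul.1 h

end CfsgLib.Local
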